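import Cfsg.Agent.Lib.CoprimeExt.Gallagher
import Cfsg.Agent.Lib.Glauberman.Constituent

/-!
# Characters of degree prime to the index of a normal Hall subgroup
-/

namespace Cfsg.Agent.CoprimeExt

open Cfsg.Agent

universe u

variable {G : Type u} [Group G] [Fintype G] (K : Subgroup G) [hK : K.Normal] [Fintype K]
  (hcop : K.index.Coprime (Nat.card K))

omit [Fintype G] hK [Fintype K] in
/-- Determinant orders divide the group order. -/
theorem detOrder_dvd_card {θ : G → ℂ} [Finite G] (hθ : Cfsg.IsCharacter G θ) :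
    Cfsg.detOrder θ ∣ Nat.card G := by
  obtain ⟨d, ρ, rfl⟩ := hθ
  rw [detOrder_eq]
  refine orderOf_dvd_of_pow_eq_one (MonoidHom.ext fun x => ?_)
  rw [MonoidHom.pow_apply, ← map_pow, pow_card_eq_one', map_one, MonoidHom.one_apply]

include hcop in
/-- The number of irreducible characters of degree prime to the index. -/
theorem card_coprime_degree :
    Nat.card {χ : Cfsg.IrrCharacter G // (CT.deg (χ : G → ℂ)).Coprime K.index} =
      Nat.card {θ : Cfsg.IrrCharacter K // ∀ g, CT.conjFun K g (θ : K → ℂ) = (θ : K → ℂ)} *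
        Nat.card (G ⧸ K →* ℂˣ) := by
  classical
  rw [← Nat.card_prod]
  symm
  have hext : ∀ θ : {θ : Cfsg.IrrCharacter K // ∀ g, CT.conjFun K g (θ : K → ℂ) = (θ : K → ℂ)},
      ∃ ψ : Cfsg.IrrCharacter G, ∀ n : K, (ψ : G → ℂ) n = (θ.1 : K → ℂ) n := by
    intro θ
    obtain ⟨ψ, ⟨h, -⟩, -⟩ := exists_coprime_ext K θ.1 (fun g n => congrFun (θ.2 g) n)
      (hcop.coprime_dvd_right (Glauberman.deg_dvd_card θ.1))
      (hcop.coprime_dvd_right (detOrder_dvd_card (CT.isCharacter_of_isIrr θ.1.2)))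
    exact ⟨ψ, h⟩
  choose ψ hψ using hext
  have hlam : ∀ (lam : G ⧸ K →* ℂˣ) (n : K), lam (QuotientGroup.mk (n : G)) = 1 := fun lam n => by
    rw [(QuotientGroup.eq_one_iff (n : G)).mpr n.2, map_one]
  have hψdeg : ∀ θ, CT.deg (ψ θ : G → ℂ) = CT.deg (θ.1 : K → ℂ) := by
    intro θ
    unfold CT.deg
    rw [← hψ θ 1]
    rfl
  let F : {θ : Cfsg.IrrCharacter K // ∀ g, CT.conjFun K g (θ : K → ℂ) = (θ : K → ℂ)} ×
      (G ⧸ K →* ℂˣ) → {χ : Cfsg.IrrCharacter G // (CT.deg (χ : G → ℂ)).Coprime K.index} :=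
    fun x => ⟨⟨_, Glauberman.isIrr_twist (ψ x.1).2 (x.2.comp (QuotientGroup.mk' K))⟩, by
      have : CT.deg (fun g => ((x.2.comp (QuotientGroup.mk' K)) g : ℂ) * (ψ x.1 : G → ℂ) g) =
          CT.deg (ψ x.1 : G → ℂ) := by
        unfold CT.deg
        simp
      show (CT.deg (fun g => ((x.2.comp (QuotientGroup.mk' K)) g : ℂ) * (ψ x.1 : G → ℂ) g)).Coprime _
      rw [this, hψdeg]
      exact (hcop.coprime_dvd_right (Glauberman.deg_dvd_card x.1.1)).symm⟩
  have hF : ∀ x g, ((F x).1 : G → ℂ) g =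
      (x.2 (QuotientGroup.mk g) : ℂ) * (ψ x.1 : G → ℂ) g := fun _ _ => rfl
  refine Nat.card_eq_of_bijective F ⟨?_, ?_⟩
  · rintro ⟨θ, lam⟩ ⟨θ', lam'⟩ h
    have h' := fun g => congrFun (congrArg Subtype.val (congrArg Subtype.val h)) g
    have hθ : θ = θ' := by
      refine Subtype.ext (Subtype.ext (funext fun n => ?_))
      have := h' n
      rw [hF, hF, hlam, hlam, Units.val_one, one_mul, one_mul, hψ, hψ] at this
      exact this
    subst hθ
    refine Prod.ext rfl ?_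
    let el : (G ⧸ K →* ℂˣ) → Cfsg.IrrCharacter G := fun l => CT.linIrr (l.comp (QuotientGroup.mk' K))
    have hel : ∀ l, Cfsg.classInner (fun n : K => (el l : G → ℂ) n) (fun _ => (1 : ℂ)) ≠ 0 := by
      intro l
      rw [show (fun n : K => (el l : G → ℂ) n) = fun _ => (1 : ℂ) from funext fun n => by
        show (l (QuotientGroup.mk (n : G)) : ℂ) = 1
        rw [hlam, Units.val_one], CT.irr_inner_self CT.isIrrCharacter_one]
      exact one_ne_zero
    by_contra hne
    have hne' : el lam ≠ el lam' := by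
      intro e
      refine hne (MonoidHom.ext fun q => ?_)
      induction q using QuotientGroup.induction_on with
      | _ g => exact Units.ext (congrFun (congrArg Subtype.val e) g)
    have h1 := inner_mul_ext K (ψ θ) θ.1 (hψ θ) (el lam) (el lam') (hel _) (hel _)
    rw [if_neg hne', show (el lam : G → ℂ) * (ψ θ : G → ℂ) = ((F (θ, lam)).1 : G → ℂ) from rfl,
      show (el lam' : G → ℂ) * (ψ θ : G → ℂ) = ((F (θ, lam)).1 : G → ℂ) from
        (funext fun g => (h' g).symm : _), CT.irr_inner_self (F (θ, lam)).1.2] at h1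
    exact one_ne_zero h1
  · rintro ⟨χ, hχ⟩
    obtain ⟨θ, hθ⟩ := CT.exists_constituent_restrict K χ.2
    have h1 := CT.clifford_mult K χ.2 θ.2 hθ
    have hidx : (CT.inertia K (θ : K → ℂ)).index = 1 := by
      refine Nat.dvd_one.mp (hχ ▸ Nat.dvd_gcd ?_
        (Subgroup.index_dvd_of_le (CT.le_inertia K (CT.isClassFunction_of_isIrr θ.2))))
      exact h1 ▸ (dvd_mul_left _ _).mul_right _
    have hinv : ∀ g, CT.conjFun K g (θ : K → ℂ) = (θ : K → ℂ) := fun g =>
      CT.mem_inertia K |>.mp ((Subgroup.index_eq_one.mp hidx).symm ▸ Subgroup.mem_top g)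
    obtain ⟨η, hη, hχη⟩ := exists_eq_mul_of_over K (ψ ⟨θ, hinv⟩) θ (hψ ⟨θ, hinv⟩) χ hθ
    obtain ⟨η', hη', hmk⟩ := CT.exists_quotient_irr η.2 K hη
    haveI : Fintype (G ⧸ K) := Fintype.ofFinite _
    have hdvd : CT.deg η' ∣ K.index := by
      rw [Subgroup.index_eq_card]; exact Glauberman.deg_dvd_card ⟨η', hη'⟩
    have hd : CT.deg (χ : G → ℂ) = CT.deg η' * CT.deg (ψ ⟨θ, hinv⟩ : G → ℂ) := by
      rw [← Nat.cast_inj (R := ℂ), Nat.cast_mul, ← CT.deg_eq (CT.isCharacter_of_isIrr χ.2), hχη,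
        Pi.mul_apply, ← CT.deg_eq (CT.isCharacter_of_isIrr hη'),
        ← CT.deg_eq (CT.isCharacter_of_isIrr (ψ _).2), ← hmk 1, QuotientGroup.mk_one]
    have hd1 : η' 1 = 1 := by
      rw [CT.deg_eq (CT.isCharacter_of_isIrr hη'), Nat.eq_one_of_dvd_coprimes hχ
        (hd ▸ dvd_mul_right _ _) hdvd, Nat.cast_one]
    obtain ⟨lam, hlam'⟩ := CT.exists_hom_of_degree_one (CT.isCharacter_of_isIrr hη') hd1
    refine ⟨(⟨θ, hinv⟩, lam), Subtype.ext (Subtype.ext (funext fun g => ?_))⟩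
    rw [hF, hχη, Pi.mul_apply, ← hmk g, hlam']

end Cfsg.Agent.CoprimeExt
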