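import Cfsg.Agent.Lib.CoprimeExt.Basic
import Cfsg.Agent.Lib.CT.Induced
import Cfsg.Agent.Lib.CT.Kernel
import Cfsg.Agent.Lib.CT.Clifford

/-!
# Gallagher's theorem
-/

namespace Cfsg.Agent.CoprimeExt

open Cfsg.Agent

open scoped ComplexConjugate

universe u

variable {G : Type u} [Group G] [Fintype G]

/-- Characters of the quotient times an extension of an irreducible character are orthonormal. -/
theorem inner_mul_ext (N : Subgroup G) [N.Normal] [Fintype N] (ψ : Cfsg.IrrCharacter G)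
    (θ : Cfsg.IrrCharacter N) (hψ : ∀ n : N, (ψ : G → ℂ) n = (θ : N → ℂ) n)
    (η η' : Cfsg.IrrCharacter G)
    (hη : Cfsg.classInner (fun n : N => (η : G → ℂ) n) (fun _ => (1 : ℂ)) ≠ 0)
    (hη' : Cfsg.classInner (fun n : N => (η' : G → ℂ) n) (fun _ => (1 : ℂ)) ≠ 0)
    [Decidable (η = η')] :
    Cfsg.classInner ((η : G → ℂ) * (ψ : G → ℂ)) ((η' : G → ℂ) * (ψ : G → ℂ)) =
      if η = η' then 1 else 0 := by
  classical
  have hc := fun η : Cfsg.IrrCharacter G => CT.isCharacter_of_isIrr η.2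
  have hθ := CT.isCharacter_of_isIrr θ.2
  have hψc := CT.isClassFunction_of_isIrr ψ.2
  have hI := CT.isCharacter_indFun_one N (G := G)
  set m : Cfsg.IrrCharacter G → ℕ :=
    fun η => CT.mult (Cfsg.indFun N (fun _ => (1 : ℂ))) (η : G → ℂ) with hm
  have hres : (fun n : N => (ψ : G → ℂ) n) = (θ : N → ℂ) := funext hψ
  have hind : Cfsg.indFun N (θ : N → ℂ) =
      ∑ η : Cfsg.IrrCharacter G, (m η : ℂ) • ((η : G → ℂ) * (ψ : G → ℂ)) := by
    have h1 := CT.indFun_mul_restrict N (fun _ => (1 : ℂ)) hψc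
    rw [hres] at h1
    rw [show ((fun _ => (1 : ℂ)) * (θ : N → ℂ)) = (θ : N → ℂ) from funext fun n => one_mul _] at h1
    rw [h1]
    calc Cfsg.indFun N (fun _ => (1 : ℂ)) * (ψ : G → ℂ)
        = (∑ η : Cfsg.IrrCharacter G, (m η : ℂ) • (η : G → ℂ)) * (ψ : G → ℂ) := by
          rw [← CT.character_eq_sum hI]
      _ = _ := by rw [Finset.sum_mul]; simp only [smul_mul_assoc]
  have hinv : ∀ g, CT.conjFun N g (θ : N → ℂ) = (θ : N → ℂ) := fun g => by
    rw [← hres]; exact CT.conjFun_restrict N g hψc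
  have hN0 : (Nat.card N : ℂ) ≠ 0 := CT.card_ne_zero
  -- the two norms
  have hnorm : ∀ {f : N → ℂ}, Cfsg.IsIrrCharacter N f → (∀ g, CT.conjFun N g f = f) →
      Cfsg.classInner (Cfsg.indFun N f) (Cfsg.indFun N f) = (N.index : ℂ) := by
    intro f hf hfi
    rw [CT.frobenius_reciprocity N f (CT.isClassFunction_indFun N f), CT.restrict_indFun N f]
    simp only [hfi, Finset.sum_const, Finset.card_univ]
    rw [← Nat.cast_smul_eq_nsmul ℂ, ← Nat.card_eq_fintype_card, smul_smul,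
      CT.classInner_smul_right, CT.irr_inner_self hf, mul_one, map_mul, map_inv₀, map_natCast,
      map_natCast, ← N.card_mul_index]
    push_cast
    field_simp
  set d : Cfsg.IrrCharacter G → Cfsg.IrrCharacter G → ℕ :=
    fun η η' => CT.mult ((η : G → ℂ) * (ψ : G → ℂ)) ((η' : G → ℂ) * (ψ : G → ℂ)) with hd
  have hdspec : ∀ η η' : Cfsg.IrrCharacter G,
      Cfsg.classInner ((η : G → ℂ) * (ψ : G → ℂ)) ((η' : G → ℂ) * (ψ : G → ℂ)) = (d η η' : ℂ) :=
    fun η η' => CT.mult_spec (CT.isCharacter_mul (hc η) (hc ψ)) (CT.isCharacter_mul (hc η') (hc ψ))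
  have hsum1 : ∑ η : Cfsg.IrrCharacter G, ∑ η' : Cfsg.IrrCharacter G, m η * m η' * d η η' =
      N.index := by
    have h := hnorm θ.2 hinv
    rw [hind, CT.classInner_sum_left] at h
    simp only [CT.classInner_sum_right, CT.classInner_smul_left, CT.classInner_smul_right,
      map_natCast, hdspec] at h
    simp only [← mul_assoc] at h
    rw [← Nat.cast_inj (R := ℂ), ← h]
    push_cast
    exact Finset.sum_congr rfl fun η _ => Finset.sum_congr rfl fun η' _ => by ring
  have hsum2 : ∑ η : Cfsg.IrrCharacter G, m η * m η = N.index := by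
    have h := hnorm (CT.isIrrCharacter_one (G := N)) (fun g => rfl)
    rw [CT.classInner_eq_sum (CT.isClassFunction_of_isCharacter hI)] at h
    simp only [CT.mult_spec hI (hc _), map_natCast] at h
    exact_mod_cast h
  have hdpos : ∀ η, 1 ≤ d η η := by
    intro η
    rcases Nat.eq_zero_or_pos (d η η) with h | h
    · exfalso
      have h1 := hdspec η η
      rw [h, Nat.cast_zero] at h1
      have h2 := congrFun (CT.classInner_self_eq_zero h1) 1
      exact mul_ne_zero (CT.irr_one_ne_zero η.2) (CT.irr_one_ne_zero ψ.2) h2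
    · exact h
  have hm0 : ∀ η : Cfsg.IrrCharacter G,
      Cfsg.classInner (fun n : N => (η : G → ℂ) n) (fun _ => (1 : ℂ)) ≠ 0 → m η ≠ 0 := by
    intro η hη h0
    apply hη
    rw [← CT.frobenius_reciprocity' N (CT.isClassFunction_of_isIrr η.2),
      CT.classInner_comm_of_char (hc η) hI, CT.mult_spec hI (hc η)]
    exact_mod_cast h0
  have hterm : ∀ a : Cfsg.IrrCharacter G, ∀ b : Cfsg.IrrCharacter G,
      m a * m b * (if a = b then 1 else 0) ≤ m a * m b * d a b := by
    intro a b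
    split_ifs with e
    · subst e; exact Nat.mul_le_mul_left _ (hdpos a)
    · simp
  have heq : ∑ a : Cfsg.IrrCharacter G, ∑ b : Cfsg.IrrCharacter G,
      m a * m b * (if a = b then 1 else 0) =
      ∑ a : Cfsg.IrrCharacter G, ∑ b : Cfsg.IrrCharacter G, m a * m b * d a b := by
    rw [hsum1, ← hsum2]
    simp
  have h1 := (Finset.sum_eq_sum_iff_of_le
    (fun a _ => Finset.sum_le_sum fun b _ => hterm a b)).mp heq η (Finset.mem_univ _)
  have h2 := (Finset.sum_eq_sum_iff_of_le (fun b _ => hterm η b)).mp h1 η' (Finset.mem_univ _)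
  have h3 := Nat.eq_of_mul_eq_mul_left
    (Nat.pos_of_ne_zero (mul_ne_zero (hm0 η hη) (hm0 η' hη'))) h2
  rw [hdspec, ← h3]
  split_ifs <;> simp

/-- Gallagher: characters over an extendible character are the extension times characters of the
quotient. -/
theorem exists_eq_mul_of_over (N : Subgroup G) [N.Normal] [Fintype N] (ψ : Cfsg.IrrCharacter G)
    (θ : Cfsg.IrrCharacter N) (hψ : ∀ n : N, (ψ : G → ℂ) n = (θ : N → ℂ) n)
    (χ : Cfsg.IrrCharacter G)
    (hχ : Cfsg.classInner (fun n : N => (χ : G → ℂ) n) (θ : N → ℂ) ≠ 0) :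
    ∃ η : Cfsg.IrrCharacter G, (∀ n ∈ N, (η : G → ℂ) n = (η : G → ℂ) 1) ∧
      (χ : G → ℂ) = (η : G → ℂ) * (ψ : G → ℂ) := by
  classical
  have hc := fun η : Cfsg.IrrCharacter G => CT.isCharacter_of_isIrr η.2
  have hψc := CT.isClassFunction_of_isIrr ψ.2
  have hI := CT.isCharacter_indFun_one N (G := G)
  set m : Cfsg.IrrCharacter G → ℕ :=
    fun η => CT.mult (Cfsg.indFun N (fun _ => (1 : ℂ))) (η : G → ℂ) with hm
  have hres : (fun n : N => (ψ : G → ℂ) n) = (θ : N → ℂ) := funext hψ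
  have hind : Cfsg.indFun N (θ : N → ℂ) =
      ∑ η : Cfsg.IrrCharacter G, (m η : ℂ) • ((η : G → ℂ) * (ψ : G → ℂ)) := by
    have h1 := CT.indFun_mul_restrict N (fun _ => (1 : ℂ)) hψc
    rw [hres] at h1
    rw [show ((fun _ => (1 : ℂ)) * (θ : N → ℂ)) = (θ : N → ℂ) from funext fun n => one_mul _] at h1
    rw [h1]
    calc Cfsg.indFun N (fun _ => (1 : ℂ)) * (ψ : G → ℂ)
        = (∑ η : Cfsg.IrrCharacter G, (m η : ℂ) • (η : G → ℂ)) * (ψ : G → ℂ) := by
          rw [← CT.character_eq_sum hI]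
      _ = _ := by rw [Finset.sum_mul]; simp only [smul_mul_assoc]
  have hne : Cfsg.classInner (χ : G → ℂ) (Cfsg.indFun N (θ : N → ℂ)) ≠ 0 := by
    rw [CT.frobenius_reciprocity' N (CT.isClassFunction_of_isIrr χ.2)]
    exact hχ
  rw [hind, CT.classInner_sum_right] at hne
  obtain ⟨η, -, hη⟩ := Finset.exists_ne_zero_of_sum_ne_zero hne
  rw [CT.classInner_smul_right, mul_ne_zero_iff] at hη
  obtain ⟨hη1, hη2⟩ := hη
  have hm0 : m η ≠ 0 := fun h => hη1 (by rw [h]; simp)
  have h1 : Cfsg.classInner (fun x : N => (η : G → ℂ) x) (fun _ => (1 : ℂ)) ≠ 0 := by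
    rw [← CT.frobenius_reciprocity' N (CT.isClassFunction_of_isIrr η.2),
      CT.classInner_comm_of_char (hc η) hI, CT.mult_spec hI (hc η)]
    exact Nat.cast_ne_zero.mpr hm0
  refine ⟨η, ?_, CT.eq_of_inner_ne_zero χ.2 ?_ hη2⟩
  · have h := CT.restrict_eq_smul_of_invariant N η.2 CT.isIrrCharacter_one h1 (fun g => rfl)
    intro n hn
    have h1 := congrFun h ⟨n, hn⟩
    have h2 := congrFun h 1
    simp only [Pi.smul_apply, OneMemClass.coe_one] at h1 h2
    rw [h1, h2]
  · exact CT.isIrr_of_inner_self (CT.isCharacter_mul (hc η) (hc ψ))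
      (by rw [inner_mul_ext N ψ θ hψ η η h1 h1, if_pos rfl])

end Cfsg.Agent.CoprimeExt
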