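import Cfsg.Agent.Lib.CoprimeExt.Gallagher
import Cfsg.Agent.Lib.Transfer.Residual
import Cfsg.Agent.Lib.Glauberman.Corr

/-!
# Characters of degree and determinant order prime to `p` and the `p`-residual
-/

namespace Cfsg.Agent.CoprimeExt

open Cfsg.Agent

universe u

variable {G : Type u} [Group G] [Fintype G] {p : ℕ} [hp : Fact p.Prime]

omit [Fintype G] in
/-- Determinant orders on the residual are prime to `p`. -/
theorem not_dvd_detOrder_residual [Finite G] (θ : Cfsg.pResidual p G → ℂ)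
    (hθ : Cfsg.IsCharacter (Cfsg.pResidual p G) θ) : ¬ p ∣ Cfsg.detOrder θ := by
  obtain ⟨d, ρ, rfl⟩ := hθ
  rw [detOrder_eq]
  intro h
  have hpos : 0 < orderOf (detHom ρ) :=
    Nat.pos_of_ne_zero fun h0 => by
      rw [orderOf_eq_zero_iff'] at h0
      refine h0 (Nat.card (Cfsg.pResidual p G)) Nat.card_pos (MonoidHom.ext fun x => ?_)
      rw [MonoidHom.pow_apply, ← map_pow, pow_card_eq_one', map_one, MonoidHom.one_apply]
  set μ : Cfsg.pResidual p G →* ℂˣ := detHom ρ ^ (orderOf (detHom ρ) / p) with hμ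
  have hord : orderOf μ = p := orderOf_pow_orderOf_div hpos.ne' h
  have hrange : IsPGroup p μ.range := by
    rintro ⟨_, x, rfl⟩
    refine ⟨1, Subtype.ext ?_⟩
    show μ x ^ p ^ 1 = 1
    have h1 := pow_orderOf_eq_one μ
    rw [hord] at h1
    rw [pow_one, ← MonoidHom.pow_apply, h1, MonoidHom.one_apply]
  have htriv : μ = 1 := MonoidHom.ext fun x =>
    congrArg Subtype.val (Transfer.hom_pResidual_eq_one μ.rangeRestrict hrange x)
  rw [htriv, orderOf_one] at hord
  exact hp.out.ne_one hord.symm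

/-- The restriction of a character of degree and determinant order prime to `p` to the residual
is irreducible and invariant. -/
theorem restrict_residual_irr [(Cfsg.pResidual p G).Normal] [Fintype (Cfsg.pResidual p G)]
    (χ : Cfsg.IrrCharacter G) (hdeg : ¬ p ∣ CT.deg (χ : G → ℂ))
    (hdet : ¬ p ∣ Cfsg.detOrder (χ : G → ℂ)) :
    ∃ θ : Cfsg.IrrCharacter (Cfsg.pResidual p G),
      ∀ n : Cfsg.pResidual p G, (χ : G → ℂ) n = (θ : Cfsg.pResidual p G → ℂ) n := by
  obtain ⟨k, hk⟩ := Transfer.exists_index_pResidual_eq_pow (G := G) (p := p)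
  set K := Cfsg.pResidual p G with hK
  obtain ⟨θ, hθ⟩ := CT.exists_constituent_restrict K χ.2
  have h1 := CT.clifford_mult K χ.2 θ.2 hθ
  have hinert : (CT.inertia K (θ : K → ℂ)).index = 1 := by
    have h2 : (CT.inertia K (θ : K → ℂ)).index ∣ p ^ k :=
      hk ▸ Subgroup.index_dvd_of_le (CT.le_inertia K (CT.isClassFunction_of_isIrr θ.2))
    obtain ⟨j, -, hj⟩ := (Nat.dvd_prime_pow hp.out).mp h2
    rcases Nat.eq_zero_or_pos j with h0 | h0
    · rw [hj, h0, pow_zero]
    · exact (hdeg (h1 ▸ ((hj ▸ dvd_pow_self p h0.ne').trans (Dvd.intro_left _ rfl)).mul_right _)).elim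
  have hinv : ∀ g, CT.conjFun K g (θ : K → ℂ) = (θ : K → ℂ) := fun g =>
    CT.mem_inertia K |>.mp ((Subgroup.index_eq_one.mp hinert).symm ▸ Subgroup.mem_top g)
  have hθdeg : ¬ p ∣ CT.deg (θ : K → ℂ) := fun h => hdeg (h1 ▸ h.mul_left _)
  have hcop1 : Nat.Coprime K.index (CT.deg (θ : K → ℂ)) := by
    rw [hk]; exact Nat.Coprime.pow_left k (hp.out.coprime_iff_not_dvd.mpr hθdeg)
  have hcop2 : Nat.Coprime K.index (Cfsg.detOrder (θ : K → ℂ)) := by
    rw [hk]
    exact Nat.Coprime.pow_left k (hp.out.coprime_iff_not_dvd.mpr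
      (not_dvd_detOrder_residual _ (CT.isCharacter_of_isIrr θ.2)))
  obtain ⟨ψ, ⟨hψ, -⟩, -⟩ := exists_coprime_ext K θ (fun g n => congrFun (hinv g) n) hcop1 hcop2
  obtain ⟨η, hη, hχ⟩ := exists_eq_mul_of_over K ψ θ hψ χ hθ
  obtain ⟨η', hη', hmk⟩ := CT.exists_quotient_irr η.2 K hη
  haveI : Fintype (G ⧸ K) := Fintype.ofFinite _
  have hdvd := Glauberman.deg_dvd_card ⟨η', hη'⟩
  rw [← Subgroup.index_eq_card, hk] at hdvd
  have hd1 : CT.deg η' = 1 := by
    obtain ⟨j, -, hj⟩ := (Nat.dvd_prime_pow hp.out).mp hdvd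
    have hj' : CT.deg η' = p ^ j := hj
    rcases Nat.eq_zero_or_pos j with h0 | h0
    · rw [hj', h0, pow_zero]
    · exfalso
      have h2 : (CT.deg (χ : G → ℂ) : ℂ) = ((p ^ j * CT.deg (ψ : G → ℂ) : ℕ) : ℂ) := by
        rw [← CT.deg_eq (CT.isCharacter_of_isIrr χ.2), hχ, Pi.mul_apply, ← hmk 1, Nat.cast_mul,
          ← CT.deg_eq (CT.isCharacter_of_isIrr ψ.2), ← hj',
          ← CT.deg_eq (CT.isCharacter_of_isIrr hη'), QuotientGroup.mk_one]
      rw [Nat.cast_inj] at h2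
      exact hdeg (h2 ▸ (dvd_pow_self p h0.ne').mul_right _)
  refine ⟨θ, fun n => ?_⟩
  rw [hχ, Pi.mul_apply, hη _ n.2, ← hmk 1, QuotientGroup.mk_one,
    CT.deg_eq (CT.isCharacter_of_isIrr hη'), hd1, Nat.cast_one, one_mul, hψ]

omit hp in
/-- Conjugation of irreducible characters of a normal subgroup. -/
noncomputable def conjPerm (N : Subgroup G) [hN : N.Normal] :
    G →* Equiv.Perm (Cfsg.IrrCharacter N) :=
  Glauberman.irrPerm (MulAut.conjNormal (H := N))

end Cfsg.Agent.CoprimeExt
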