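import Mathlib.GroupTheory.Transfer
import Mathlib.LinearAlgebra.Determinant
import Cfsg.Prelude.Def_CharExt
import Cfsg.Agent.Lib.CT.Orthogonality

/-!
# Extension of invariant characters along a coprime index

If `N` is normal in `G`, `θ` is an invariant irreducible character of `N` whose degree is
prime to the index, then `θ` extends as soon as its determinant does, uniquely for a
prescribed determinant.  The intertwiners are normalised by their determinants, and the
resulting cocycle with values in roots of unity of order `θ 1` is killed by the index.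
-/

namespace Cfsg.Agent.CoprimeExt

open Cfsg.Agent

universe u v

variable {G : Type u} [Group G] {V : Type v} [AddCommGroup V] [Module ℂ V] [FiniteDimensional ℂ V]

/-- The determinant of a representation, as a homomorphism. -/
noncomputable def detHom (ρ : Representation ℂ G V) : G →* ℂˣ :=
  ((LinearMap.det : (V →ₗ[ℂ] V) →* ℂ).comp (ρ : G →* V →ₗ[ℂ] V)).toHomUnits

theorem detHom_apply (ρ : Representation ℂ G V) (g : G) :
    (detHom ρ g : ℂ) = LinearMap.det (ρ g) := rfl

theorem detChar_eq [Finite G] (ρ : Representation ℂ G V) :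
    Cfsg.detChar ρ.character = fun g => (detHom ρ g : ℂ) := by
  have h : Cfsg.IsCharacter G ρ.character := CT.isCharacter_character ρ
  funext g
  rw [Cfsg.detChar, dif_pos h]
  obtain ⟨e⟩ := CT.equiv_of_character_eq ρ _ (Classical.choose_spec (Classical.choose_spec h)).symm
  show LinearMap.det ((Classical.choose (Classical.choose_spec h)) g) = _
  rw [detHom_apply, ← e.conj_apply_self g]
  exact LinearMap.det_conj _ _

theorem orderOf_coe (lam : G →* ℂˣ) : orderOf (fun g => (lam g : ℂ)) = orderOf lam :=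
  orderOf_injective
    ({ toFun := fun l g => (l g : ℂ), map_one' := rfl, map_mul' := fun _ _ => rfl } : (G →* ℂˣ) →* (G → ℂ))
    (fun a b h => MonoidHom.ext fun g => Units.ext (congrFun h g)) lam

theorem detOrder_eq [Finite G] (ρ : Representation ℂ G V) :
    Cfsg.detOrder ρ.character = orderOf (detHom ρ) := by
  rw [Cfsg.detOrder, detChar_eq, orderOf_coe]

/-- Pullback of a representation along a homomorphism. -/
abbrev pullRep {H : Type*} [Group H] (ρ : Representation ℂ G V) (f : H →* G) : Representation ℂ H V :=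
  ρ.comp f

/-- An invariant linear character kills the commutators with the ambient group. -/
theorem lam_conj {N : Subgroup G} [hN : N.Normal] {A : Type*} [CommGroup A] (lam : N →* A)
    (hinv : ∀ (g : G) (n : N), lam ⟨g * n * g⁻¹, hN.conj_mem n n.2 g⟩ = lam n)
    (a : G) (n : N) (h : a⁻¹ * (n : G) * a ∈ N) : lam ⟨a⁻¹ * n * a, h⟩ = lam n := by
  have h1 := hinv a⁻¹ n
  simpa only [inv_inv] using h1

/-- The transfer on a normal subgroup of an invariant linear character. -/
theorem transfer_normal [Finite G] (N : Subgroup G) [hN : N.Normal] (lam : N →* ℂˣ)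
    (hinv : ∀ (g : G) (n : N), lam ⟨g * n * g⁻¹, hN.conj_mem n n.2 g⟩ = lam n) (n : N) :
    MonoidHom.transfer lam (n : G) = lam n ^ N.index := by
  classical
  have hfix : ∀ q : G ⧸ N, Function.minimalPeriod ((n : G) • ·) q = 1 := by
    intro q
    rw [Function.minimalPeriod_eq_one_iff_isFixedPt, Function.IsFixedPt]
    obtain ⟨a, rfl⟩ := QuotientGroup.mk_surjective q
    rw [MulAction.Quotient.smul_mk, smul_eq_mul, QuotientGroup.eq, mul_inv_rev]
    have : a⁻¹ * ((n : G))⁻¹ * a⁻¹⁻¹ ∈ N := hN.conj_mem _ (inv_mem n.2) a⁻¹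
    simpa [mul_assoc] using this
  let : Fintype (G ⧸ N) := Fintype.ofFinite _
  rw [MonoidHom.transfer_eq_prod_quotient_orbitRel_zpowers_quot lam (n : G)]
  rw [Finset.prod_eq_pow_card (b := lam n)]
  · congr 1
    rw [Finset.card_univ, ← Nat.card_eq_fintype_card, Subgroup.index_eq_card,
      Nat.card_congr (Subgroup.quotientEquivSigmaZMod N (n : G)), Nat.card_sigma]
    simp [hfix]
  · intro q _
    rw [← lam_conj lam hinv q.out.out n (by
      simpa [mul_assoc] using hN.conj_mem _ n.2 q.out.out⁻¹)]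
    congr 2
    rw [hfix, pow_one]

/-- Extension of an invariant linear character of coprime order. -/
theorem exists_lin_ext [Finite G] (N : Subgroup G) [hN : N.Normal] (lam : N →* ℂˣ)
    (hinv : ∀ (g : G) (n : N), lam ⟨g * n * g⁻¹, hN.conj_mem n n.2 g⟩ = lam n)
    (hcop : Nat.Coprime N.index (orderOf lam)) :
    ∃ μ : G →* ℂˣ, (∀ n : N, μ n = lam n) ∧ orderOf μ = orderOf lam := by
  classical
  let o := orderOf lam
  have ho : ∀ n : N, lam n ^ o = 1 := fun n => by
    rw [← MonoidHom.pow_apply, pow_orderOf_eq_one, MonoidHom.one_apply]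
  obtain ⟨k, hk⟩ : ∃ k : ℕ, N.index * k ≡ 1 [MOD o] := by
    rcases eq_or_ne o 1 with h1 | h1
    · exact ⟨0, h1 ▸ Nat.modEq_one⟩
    · obtain ⟨k, hk⟩ := Nat.exists_mul_mod_eq_one_of_coprime hcop
        (lt_of_le_of_ne (orderOf_pos lam) (Ne.symm h1))
      exact ⟨k, by rw [Nat.ModEq, hk.2, Nat.one_mod_eq_one.mpr h1]⟩
  have hval : ∀ n : N, (MonoidHom.transfer lam ^ k) (n : G) = lam n := fun n => by
    rw [MonoidHom.pow_apply, transfer_normal N lam hinv, ← pow_mul]
    have h2 : orderOf (lam n) ∣ o := orderOf_dvd_of_pow_eq_one (ho n)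
    rw [← pow_mod_orderOf, Nat.ModEq.of_dvd h2 hk, pow_mod_orderOf, pow_one]
  refine ⟨(MonoidHom.transfer lam) ^ k, hval, ?_⟩
  apply Nat.dvd_antisymm
  · refine orderOf_dvd_of_pow_eq_one (MonoidHom.ext fun g => ?_)
    have : MonoidHom.transfer lam g ^ o = 1 := by
      let : Fintype (G ⧸ N) := Fintype.ofFinite _
      rw [MonoidHom.transfer_eq_prod_quotient_orbitRel_zpowers_quot lam g, ← Finset.prod_pow]
      exact Finset.prod_eq_one fun q _ => ho _
    rw [MonoidHom.pow_apply, MonoidHom.pow_apply, ← pow_mul, mul_comm, pow_mul, this, one_pow]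
    rfl
  · refine orderOf_dvd_of_pow_eq_one (MonoidHom.ext fun n => ?_)
    rw [MonoidHom.pow_apply, ← hval, ← MonoidHom.pow_apply, pow_orderOf_eq_one]
    rfl

/-- Two extensions of coprime order of a linear character coincide. -/
theorem lin_ext_unique [Finite G] (N : Subgroup G) [N.Normal] (μ μ' : G →* ℂˣ)
    (h : ∀ n : N, μ n = μ' n) (hc : Nat.Coprime N.index (orderOf μ))
    (hc' : Nat.Coprime N.index (orderOf μ')) : μ = μ' := by
  rw [← mul_inv_eq_one]
  have h1 : (μ * μ'⁻¹) ^ N.index = 1 := by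
    refine MonoidHom.ext fun g => ?_
    have hg := h ⟨g ^ N.index, Subgroup.pow_index_mem N g⟩
    simp [MonoidHom.pow_apply, MonoidHom.mul_apply, mul_pow, ← map_pow, hg]
  have h2 : (μ * μ'⁻¹) ^ (orderOf μ * orderOf μ') = 1 := by
    refine MonoidHom.ext fun g => ?_
    have a1 : μ g ^ orderOf μ = 1 := by rw [← MonoidHom.pow_apply, pow_orderOf_eq_one]; rfl
    have a2 : μ' g ^ orderOf μ' = 1 := by rw [← MonoidHom.pow_apply, pow_orderOf_eq_one]; rfl
    rw [MonoidHom.pow_apply, MonoidHom.mul_apply, mul_pow, pow_mul, a1, one_pow, one_mul,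
      mul_comm (orderOf μ), pow_mul]
    simp [inv_pow, a2]
  have h3 : orderOf (μ * μ'⁻¹) ∣ 1 :=
    (Nat.Coprime.mul_right hc hc') ▸
      Nat.dvd_gcd (orderOf_dvd_of_pow_eq_one h1) (orderOf_dvd_of_pow_eq_one h2)
  exact orderOf_eq_one_iff.mp (Nat.dvd_one.mp h3)

section Extend

variable [Finite G] (N : Subgroup G) [hN : N.Normal]

/-- An invariant irreducible representation of a normal subgroup, of degree prime to the index,
extends with any prescribed extension of its determinant. -/
theorem exists_rep_ext (ρ : Representation ℂ N V) [hρ : ρ.IsIrreducible]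
    (hinv : ∀ (g : G) (n : N), ρ.character ⟨g * n * g⁻¹, hN.conj_mem n n.2 g⟩ = ρ.character n)
    (hcop : Nat.Coprime N.index (Module.finrank ℂ V))
    (μ : G →* ℂˣ) (hμ : ∀ n : N, μ n = detHom ρ n) :
    ∃ σ : Representation ℂ G V, (∀ n : N, σ n = ρ n) ∧ detHom σ = μ := by
  classical
  set d := Module.finrank ℂ V with hd
  have hd0 : 0 < d := CT.finrank_pos_of_irreducible ρ
  -- an intertwiner with prescribed determinant, for each element
  have hone : ∀ g : G, ∃ T : V →ₗ[ℂ] V, LinearMap.det T = (μ g : ℂ) ∧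
      ∀ n : N, T ∘ₗ ρ n = ρ ⟨g * n * g⁻¹, hN.conj_mem n n.2 g⟩ ∘ₗ T := by
    intro g
    let c : N →* N :=
      { toFun := fun n => ⟨g * n * g⁻¹, hN.conj_mem n n.2 g⟩
        map_one' := Subtype.ext (by simp)
        map_mul' := fun a b => Subtype.ext (by simp) }
    let ρg : Representation ℂ N V := ρ.comp c
    obtain ⟨e⟩ := CT.equiv_of_character_eq ρ ρg (funext fun n => (hinv g n).symm)
    have he0 : LinearMap.det (e.toLinearEquiv : V →ₗ[ℂ] V) ≠ 0 :=
      (LinearEquiv.isUnit_det' e.toLinearEquiv).ne_zero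
    obtain ⟨r, hr⟩ := IsAlgClosed.exists_pow_nat_eq
      ((μ g : ℂ) / LinearMap.det (e.toLinearEquiv : V →ₗ[ℂ] V)) hd0
    refine ⟨r • (e.toLinearEquiv : V →ₗ[ℂ] V), ?_, fun n => ?_⟩
    · rw [LinearMap.det_smul, ← hd, hr, div_mul_cancel₀ _ he0]
    · rw [LinearMap.smul_comp, LinearMap.comp_smul]
      congr 1
      exact LinearMap.ext fun v => e.toIntertwiningMap.isIntertwining ρ ρg n v
  choose T0 hT0d hT0 using hone
  -- normalise along the cosets
  let rep : G → G := fun g => if g ∈ N then 1 else (QuotientGroup.mk g : G ⧸ N).out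
  have hrep : ∀ g : G, g * (rep g)⁻¹ ∈ N := by
    intro g
    by_cases hg : g ∈ N
    · simpa [rep, hg] using hg
    · simp only [rep, if_neg hg]
      have h := QuotientGroup.mk_out_eq_mul N g
      obtain ⟨m, hm⟩ := h
      rw [hm, mul_inv_rev, ← mul_assoc]
      exact hN.conj_mem _ (inv_mem m.2) g
  have hrepmul : ∀ (g : G) (n : N), rep ((n : G) * g) = rep g := by
    intro g n
    have h1 : ((n : G) * g ∈ N) ↔ g ∈ N := N.mul_mem_cancel_left n.2
    have h2 : (QuotientGroup.mk ((n : G) * g) : G ⧸ N) = QuotientGroup.mk g := by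
      rw [QuotientGroup.eq]
      have := hN.conj_mem _ (inv_mem n.2) g⁻¹
      simpa [mul_assoc] using this
    simp only [rep, h1, h2]
  let T1 : G → (V →ₗ[ℂ] V) := fun g => if g = 1 then LinearMap.id else T0 g
  have hT1d : ∀ g, LinearMap.det (T1 g) = (μ g : ℂ) := by
    intro g
    by_cases hg : g = 1
    · subst hg; simp [T1]
    · simp [T1, hg, hT0d]
  have hT1 : ∀ (g : G) (n : N), T1 g ∘ₗ ρ n = ρ ⟨g * n * g⁻¹, hN.conj_mem n n.2 g⟩ ∘ₗ T1 g := by
    intro g n
    by_cases hg : g = 1
    · subst hg; simp [T1]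
    · simp [T1, hg, hT0]
  let T : G → (V →ₗ[ℂ] V) := fun g => ρ ⟨g * (rep g)⁻¹, hrep g⟩ ∘ₗ T1 (rep g)
  have hTmul : ∀ (g : G) (n : N), T ((n : G) * g) = ρ n ∘ₗ T g := by
    intro g n
    show ρ _ ∘ₗ T1 (rep ((n : G) * g)) = ρ n ∘ₗ (ρ _ ∘ₗ T1 (rep g))
    rw [← LinearMap.comp_assoc, ← Module.End.mul_eq_comp (ρ n), ← map_mul]
    congr 1
    · congr 1
      exact Subtype.ext (by simp [hrepmul, mul_assoc])
    · rw [hrepmul]
  have hTd : ∀ g, LinearMap.det (T g) = (μ g : ℂ) := by
    intro g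
    show LinearMap.det (ρ _ ∘ₗ T1 (rep g)) = _
    rw [LinearMap.det_comp, hT1d, ← detHom_apply, ← hμ, ← Units.val_mul, ← map_mul]
    simp
  have hTint : ∀ (g : G) (n : N), T g ∘ₗ ρ n = ρ ⟨g * n * g⁻¹, hN.conj_mem n n.2 g⟩ ∘ₗ T g := by
    intro g n
    show (ρ _ ∘ₗ T1 (rep g)) ∘ₗ ρ n = _ ∘ₗ (ρ _ ∘ₗ T1 (rep g))
    rw [LinearMap.comp_assoc, hT1, ← LinearMap.comp_assoc, ← LinearMap.comp_assoc,
      ← Module.End.mul_eq_comp (ρ _) (ρ _), ← Module.End.mul_eq_comp (ρ _) (ρ _), ← map_mul, ← map_mul]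
    congr 2
    exact Subtype.ext (by simp [mul_assoc])
  have hT1one : T 1 = LinearMap.id := by
    show ρ _ ∘ₗ T1 (rep 1) = _
    have : rep (1 : G) = 1 := by simp [rep]
    have h' : (⟨1 * (rep 1)⁻¹, hrep 1⟩ : N) = 1 := Subtype.ext (by simp [this])
    rw [h', map_one, this]
    simp [T1, Module.End.one_eq_id]
  have hTn : ∀ n : N, T (n : G) = ρ n := by
    intro n
    have := hTmul 1 n
    rw [mul_one, hT1one, LinearMap.comp_id] at this
    exact this
  have hTd0 : ∀ g, LinearMap.det (T g) ≠ 0 := fun g => by rw [hTd]; exact Units.ne_zero _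
  have hTinj : ∀ g, Function.Injective (T g) := fun g => by
    have hu : IsUnit (T g) := (LinearMap.isUnit_iff_isUnit_det _).mpr (isUnit_iff_ne_zero.mpr (hTd0 g))
    exact ((Module.End.isUnit_iff _).mp hu).injective
  -- the cocycle
  have hcoc : ∀ g h : G, ∃ c : ℂ, T g ∘ₗ T h = c • T (g * h) := by
    intro g h
    have hu : IsUnit (LinearMap.det (T (g * h))) := by rw [hTd]; exact Units.isUnit _
    let e := LinearEquiv.ofBijective (T (g * h)) ((Module.End.isUnit_iff _).mp
      ((LinearMap.isUnit_iff_isUnit_det _).mpr hu))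
    have he : ∀ v, e v = T (g * h) v := fun v => rfl
    have : Fintype N := Fintype.ofFinite N
    have hc := CT.eq_scalar_of_commute ρ (e.symm.toLinearMap ∘ₗ (T g ∘ₗ T h)) (fun n => by
      refine LinearMap.ext fun v => e.injective ?_
      simp only [Module.End.mul_apply, LinearMap.comp_apply, LinearEquiv.coe_coe,
        LinearEquiv.apply_symm_apply]
      rw [he]
      have h1 := LinearMap.congr_fun (hTint (g * h) n) (e.symm (T g (T h v)))
      have h2 := LinearMap.congr_fun (hTint h n) v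
      have h3 := LinearMap.congr_fun (hTint g ⟨h * n * h⁻¹, hN.conj_mem n n.2 h⟩) (T h v)
      simp only [LinearMap.comp_apply] at h1 h2 h3
      rw [h1, h2, h3, ← he, LinearEquiv.apply_symm_apply]
      congr 2
      exact Subtype.ext (by simp [mul_assoc]))
    refine ⟨LinearMap.trace ℂ V (e.symm.toLinearMap ∘ₗ (T g ∘ₗ T h)) / (Module.finrank ℂ V : ℂ), LinearMap.ext fun v => ?_⟩
    have := congrArg e (LinearMap.congr_fun hc v)
    simp only [LinearMap.comp_apply, LinearEquiv.coe_coe, LinearEquiv.apply_symm_apply,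
      LinearMap.smul_apply, LinearMap.id_apply, map_smul, he] at this ⊢
    rw [← he, LinearEquiv.apply_symm_apply] at this
    exact this
  choose c hc using hcoc
  have hnz : ∀ g, T g ≠ 0 := by
    intro g h0
    have : Nontrivial V := Module.nontrivial_of_finrank_pos hd0
    obtain ⟨v, hv⟩ := exists_ne (0 : V)
    exact hv (hTinj g (by rw [h0]; simp))
  have hcu : ∀ a a' g, a • T g = a' • T g → a = a' := fun a a' g h =>
    smul_left_injective ℂ (hnz g) h
  have hcd : ∀ g h, c g h ^ d = 1 := by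
    intro g h
    have := congrArg LinearMap.det (hc g h)
    rw [LinearMap.det_comp, LinearMap.det_smul, hTd, hTd, hTd, ← hd, map_mul, Units.val_mul] at this
    exact mul_right_cancel₀ (mul_ne_zero (Units.ne_zero _) (Units.ne_zero _))
      ((one_mul _).trans this).symm
  have hcocycle : ∀ g h k, c g h * c (g * h) k = c h k * c g (h * k) := by
    intro g h k
    have h1 : (T g ∘ₗ T h) ∘ₗ T k = (c g h * c (g * h) k) • T (g * h * k) := by
      rw [hc g h, LinearMap.smul_comp, hc (g * h) k, smul_smul]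
    have h2 : T g ∘ₗ (T h ∘ₗ T k) = (c h k * c g (h * k)) • T (g * h * k) := by
      rw [hc h k, LinearMap.comp_smul, hc g (h * k), smul_smul, mul_assoc g]
    exact hcu _ _ _ (h1.symm.trans ((LinearMap.comp_assoc _ _ _).trans h2))
  have hTmul' : ∀ (g : G) (n : N), T (g * n) = T g ∘ₗ ρ n := by
    intro g n
    have := hTmul g ⟨g * n * g⁻¹, hN.conj_mem n n.2 g⟩
    simp only [inv_mul_cancel_right] at this
    rw [this, hTint]
  have hcr : ∀ g h (n : N), c g (h * n) = c g h := by
    intro g h n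
    apply hcu _ _ (g * h * n)
    rw [mul_assoc g h, ← hc g (h * n), hTmul' h n, ← LinearMap.comp_assoc, hc g h,
      LinearMap.smul_comp, ← hTmul', mul_assoc]
  have hcl : ∀ g h (n : N), c (g * n) h = c g h := by
    intro g h n
    apply hcu _ _ (g * n * h)
    rw [← hc, hTmul' g n, LinearMap.comp_assoc, ← hTmul h n]
    rw [hc, show g * ((n : G) * h) = g * n * h by group]
    congr 1
    rw [show (n : G) * h = h * ((⟨h⁻¹ * n * h, by simpa using hN.conj_mem _ n.2 h⁻¹⟩ : N) : G) by
      simp [mul_assoc], hcr]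
  -- the cocycle is a coboundary
  let : Fintype (G ⧸ N) := Fintype.ofFinite _
  let b : G → ℂ := fun g => ∏ q : G ⧸ N, c g q.out
  have hout : ∀ g h : G, c g ((QuotientGroup.mk h : G ⧸ N).out) = c g h := by
    intro g h
    obtain ⟨m, hm⟩ := QuotientGroup.mk_out_eq_mul N h
    rw [hm, hcr]
  have hb : ∀ g h, c g h ^ N.index * b (g * h) = b g * b h := by
    intro g h
    have hperm : ∏ q : G ⧸ N, c g (h * q.out) = b g := by
      refine (Finset.prod_congr rfl fun q _ => ?_).trans
        (Equiv.prod_comp (MulAction.toPerm (α := G) (β := G ⧸ N) h) (fun q => c g q.out))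
      show _ = c g (h • q).out
      conv_rhs => rw [← QuotientGroup.out_eq' q, MulAction.Quotient.smul_mk, smul_eq_mul]
      rw [hout]
    have hprod : ∏ q : G ⧸ N, (c g h * c (g * h) q.out) = ∏ q : G ⧸ N, (c h q.out * c g (h * q.out)) :=
      Finset.prod_congr rfl fun q _ => hcocycle g h q.out
    rw [Finset.prod_mul_distrib, Finset.prod_mul_distrib, Finset.prod_const, Finset.card_univ,
      ← Nat.card_eq_fintype_card, ← Subgroup.index_eq_card, hperm] at hprod
    rw [hprod, mul_comm]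
  have hbd : ∀ g, b g ^ d = 1 := fun g => by
    rw [← Finset.prod_pow]; exact Finset.prod_eq_one fun q _ => hcd _ _
  obtain ⟨k, hk⟩ : ∃ k : ℕ, N.index * k ≡ 1 [MOD d] := by
    rcases eq_or_ne d 1 with h1 | h1
    · exact ⟨0, h1 ▸ Nat.modEq_one⟩
    · obtain ⟨k, hk⟩ := Nat.exists_mul_mod_eq_one_of_coprime hcop
        (lt_of_le_of_ne hd0 (Ne.symm h1))
      exact ⟨k, by rw [Nat.ModEq, hk.2, Nat.one_mod_eq_one.mpr h1]⟩
  have hpow : ∀ g h, c g h ^ (N.index * k) = c g h := by
    intro g h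
    have h2 : orderOf (c g h) ∣ d := orderOf_dvd_of_pow_eq_one (hcd g h)
    rw [← pow_mod_orderOf, Nat.ModEq.of_dvd h2 hk, pow_mod_orderOf, pow_one]
  have hb0 : ∀ g, b g ≠ 0 := fun g h0 => by
    have := hbd g; rw [h0, zero_pow hd0.ne'] at this; exact zero_ne_one this
  have hc1 : ∀ h, c 1 h = 1 := by
    intro h
    apply hcu _ _ h
    have := hc 1 h
    rw [hT1one, LinearMap.id_comp, one_mul] at this
    rw [one_smul, ← this]
  have hbn : ∀ n : N, b (n : G) = 1 := fun n => Finset.prod_eq_one fun q _ => by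
    have := hcl 1 q.out n
    rw [one_mul] at this
    rw [this, hc1]
  let σ : Representation ℂ G V :=
    { toFun := fun g => (b g ^ k)⁻¹ • T g
      map_one' := by
        rw [show b 1 = 1 by simpa using hbn 1]
        simp [hT1one, Module.End.one_eq_id]
      map_mul' := fun g h => by
        show (b (g * h) ^ k)⁻¹ • T (g * h) = ((b g ^ k)⁻¹ • T g) ∘ₗ ((b h ^ k)⁻¹ • T h)
        rw [LinearMap.smul_comp, LinearMap.comp_smul, hc, smul_smul, smul_smul]
        congr 1
        have h1 := congrArg (· ^ k) (hb g h)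
        simp only [mul_pow, ← pow_mul, hpow] at h1
        have e1 := pow_ne_zero k (hb0 g)
        have e2 := pow_ne_zero k (hb0 h)
        have e3 := pow_ne_zero k (hb0 (g * h))
        field_simp
        linear_combination -h1 }
  refine ⟨σ, fun n => ?_, MonoidHom.ext fun g => Units.ext ?_⟩
  · show (b (n : G) ^ k)⁻¹ • T (n : G) = ρ n
    rw [hbn, hTn]; simp
  · show LinearMap.det ((b g ^ k)⁻¹ • T g) = _
    rw [LinearMap.det_smul, hTd, ← hd, inv_pow, ← pow_mul, mul_comm k d, pow_mul, hbd, one_pow,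
      inv_one, one_mul]

/-- A representation irreducible on a subgroup is irreducible. -/
theorem irreducible_of_restrict (σ : Representation ℂ G V) (ρ : Representation ℂ N V)
    [ρ.IsIrreducible] (h : ∀ n : N, σ n = ρ n) : σ.IsIrreducible := by
  obtain ⟨hV, hW⟩ := (CT.isIrreducible_iff ρ).mp ‹_›
  exact (CT.isIrreducible_iff σ).mpr ⟨hV, fun W hW' => hW W fun n v hv => h n ▸ hW' n v hv⟩

/-- Extensions with the same determinant coincide. -/
theorem rep_ext_unique {W : Type v} [AddCommGroup W] [Module ℂ W] [FiniteDimensional ℂ W]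
    (σ : Representation ℂ G V) (τ : Representation ℂ G W)
    (hirr : (pullRep σ N.subtype).IsIrreducible)
    (hres : ∀ n : N, σ.character n = τ.character n)
    (hcop : Nat.Coprime N.index (Module.finrank ℂ V))
    (hdet : detHom σ = detHom τ) : σ.character = τ.character := by
  classical
  set d := Module.finrank ℂ V with hd
  obtain ⟨e⟩ := CT.equiv_of_character_eq (pullRep τ N.subtype)
    (pullRep σ N.subtype) (funext fun n => (hres n).symm)
  let τ' : Representation ℂ G V :=
    { toFun := fun g => e.toLinearEquiv.conj (τ g)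
      map_one' := by rw [map_one]; exact LinearEquiv.conj_id _
      map_mul' := fun g h => by rw [map_mul]; exact LinearEquiv.conj_comp _ _ _ }
  have hχ : τ'.character = τ.character := funext fun g => LinearMap.trace_conj' (τ g) _
  have hdet' : ∀ g, LinearMap.det (τ' g) = LinearMap.det (σ g) := by
    intro g
    show LinearMap.det (e.toLinearEquiv.conj (τ g)) = _
    have h1 := congrArg (fun f : G →* ℂˣ => ((f g : ℂˣ) : ℂ)) hdet
    simp only [detHom_apply] at h1
    rw [h1]
    exact LinearMap.det_conj _ _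
  have hN' : ∀ n : N, τ' n = σ n := fun n => e.conj_apply_self n
  have hcomm : ∀ g (n : N), σ g⁻¹ * τ' g * σ n = σ n * (σ g⁻¹ * τ' g) := by
    intro g n
    have hm : g * n * g⁻¹ ∈ N := hN.conj_mem n n.2 g
    have h1 : τ' g * σ n = σ (g * n * g⁻¹) * τ' g := by
      rw [← hN' n, ← hN' ⟨_, hm⟩, ← map_mul, ← map_mul]
      simp
    rw [mul_assoc, h1, ← mul_assoc, ← map_mul, ← mul_assoc (σ (n : G)), ← map_mul]
    congr 2
    group
  have := hirr
  have : Fintype N := Fintype.ofFinite N
  let a : G → ℂ := fun g => LinearMap.trace ℂ V (σ g⁻¹ * τ' g) / (Module.finrank ℂ V : ℂ)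
  have ha : ∀ g, σ g⁻¹ * τ' g = a g • LinearMap.id := fun g =>
    CT.eq_scalar_of_commute (pullRep σ N.subtype) (σ g⁻¹ * τ' g) (hcomm g)
  have hs : ∀ g, τ' g = a g • σ g := by
    intro g
    have := congrArg (σ g * ·) (ha g)
    simp only [← mul_assoc, ← map_mul, mul_inv_cancel, map_one, one_mul] at this
    rw [this, mul_smul_comm]
    simp [← Module.End.one_eq_id]
  have : Nontrivial V := ((CT.isIrreducible_iff _).mp hirr).1
  have had : ∀ g, a g ^ d = 1 := by
    intro g
    have h1 := hdet' g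
    rw [hs, LinearMap.det_smul, ← hd] at h1
    have h0 : LinearMap.det (σ g) ≠ 0 := by rw [← detHom_apply]; exact Units.ne_zero _
    exact mul_right_cancel₀ h0 (h1.trans (one_mul _).symm)
  have hne : ∀ g, σ g ≠ 0 := by
    intro g h0
    have hd' : LinearMap.det (σ g) ≠ 0 := by rw [← detHom_apply]; exact Units.ne_zero _
    have : Nonempty (Fin (Module.finrank ℂ V)) := ⟨⟨0, Module.finrank_pos⟩⟩
    rw [h0, LinearMap.det_zero' (Module.finBasis ℂ V)] at hd'
    exact hd' rfl
  have hmul : ∀ g h, a (g * h) = a g * a h := by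
    intro g h
    have h1 : a (g * h) • σ (g * h) = (a g * a h) • σ (g * h) := by
      rw [← hs, map_mul, hs, hs, smul_mul_smul_comm, ← map_mul]
    exact smul_left_injective ℂ (hne _) h1
  have han : ∀ n : N, a n = 1 := fun n =>
    smul_left_injective ℂ (hne n) ((hs n).symm.trans ((hN' n).trans (one_smul ℂ _).symm))
  let α : G →* ℂ := { toFun := a, map_one' := by simpa using han 1, map_mul' := hmul }
  have hone : ∀ g, a g = 1 := by
    intro g
    have h1 : a g ^ N.index = 1 := by
      show α g ^ N.index = 1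
      rw [← map_pow]
      exact han ⟨_, Subgroup.pow_index_mem N g⟩
    exact orderOf_eq_one_iff.mp (Nat.dvd_one.mp
      (hcop ▸ Nat.dvd_gcd (orderOf_dvd_of_pow_eq_one h1) (orderOf_dvd_of_pow_eq_one (had g))))
  rw [← hχ]
  funext g
  show _ = LinearMap.trace ℂ V (τ' g)
  rw [hs, hone, one_smul]
  rfl

/-- A character extension with prescribed determinant. -/
theorem exists_char_ext (θ : Cfsg.IrrCharacter N)
    (hinv : ∀ (g : G) (n : N), (θ : N → ℂ) ⟨g * n * g⁻¹, hN.conj_mem n n.2 g⟩ = (θ : N → ℂ) n)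
    (hcop : Nat.Coprime N.index (CT.deg (θ : N → ℂ)))
    (μ : G →* ℂˣ) (hμ : ∀ n : N, (μ n : ℂ) = Cfsg.detChar (θ : N → ℂ) n) :
    ∃ χ : Cfsg.IrrCharacter G, (∀ n : N, (χ : G → ℂ) n = (θ : N → ℂ) n) ∧
      Cfsg.detChar (χ : G → ℂ) = fun g => (μ g : ℂ) := by
  obtain ⟨θ, d, ρ, hρ, rfl⟩ := θ
  rw [CT.deg_eq_finrank] at hcop
  obtain ⟨σ, hσ, hdet⟩ := exists_rep_ext N ρ hinv hcop μ
    (fun n => Units.ext (by rw [hμ]; exact congrFun (detChar_eq ρ) n))
  have := irreducible_of_restrict N σ ρ hσ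
  refine ⟨⟨σ.character, CT.isIrrCharacter_character σ⟩, fun n => ?_, ?_⟩
  · show LinearMap.trace ℂ _ (σ n) = _
    rw [hσ]; rfl
  · rw [detChar_eq, hdet]

/-- Uniqueness of the extension with prescribed determinant. -/
theorem char_ext_unique (θ : Cfsg.IrrCharacter N) (χ χ' : G → ℂ)
    (hχ : Cfsg.IsCharacter G χ) (hχ' : Cfsg.IsCharacter G χ')
    (h : ∀ n : N, χ n = (θ : N → ℂ) n) (h' : ∀ n : N, χ' n = (θ : N → ℂ) n)
    (hcop : Nat.Coprime N.index (CT.deg (θ : N → ℂ)))
    (hdet : Cfsg.detChar χ = Cfsg.detChar χ') : χ = χ' := by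
  obtain ⟨d, σ, rfl⟩ := hχ
  obtain ⟨d', τ, rfl⟩ := hχ'
  have hres : (pullRep σ N.subtype).character = (θ : N → ℂ) := funext h
  have hirr : (pullRep σ N.subtype).IsIrreducible :=
    CT.isIrreducible_of_isIrrCharacter _ (hres ▸ θ.2)
  have hd : Nat.Coprime N.index (Module.finrank ℂ (Fin d → ℂ)) := by
    rw [← CT.deg_eq_finrank (pullRep σ N.subtype), hres]
    exact hcop
  refine rep_ext_unique N σ τ hirr (fun n => (h n).trans (h' n).symm) hd
    (MonoidHom.ext fun g => Units.ext ?_)
  rw [← congrFun (detChar_eq σ) g, hdet]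
  exact congrFun (detChar_eq τ) g

/-- Gallagher: an invariant character with degree and determinant order prime to the index has
a unique extension of coprime determinant order; that order is unchanged. -/
theorem exists_coprime_ext (θ : Cfsg.IrrCharacter N)
    (hinv : ∀ (g : G) (n : N), (θ : N → ℂ) ⟨g * n * g⁻¹, hN.conj_mem n n.2 g⟩ = (θ : N → ℂ) n)
    (hcop : Nat.Coprime N.index (CT.deg (θ : N → ℂ)))
    (hdo : Nat.Coprime N.index (Cfsg.detOrder (θ : N → ℂ))) :
    ∃ χ : Cfsg.IrrCharacter G, ((∀ n : N, (χ : G → ℂ) n = (θ : N → ℂ) n) ∧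
      Cfsg.detOrder (χ : G → ℂ) = Cfsg.detOrder (θ : N → ℂ)) ∧
      ∀ χ' : G → ℂ, Cfsg.IsCharacter G χ' → (∀ n : N, χ' n = (θ : N → ℂ) n) →
        Nat.Coprime N.index (Cfsg.detOrder χ') → χ' = χ := by
  obtain ⟨θ, d, ρ, hρ, rfl⟩ := θ
  have hl : ∀ (g : G) (n : N),
      detHom ρ ⟨g * n * g⁻¹, hN.conj_mem n n.2 g⟩ = detHom ρ n := by
    intro g n
    let c : N →* N :=
      { toFun := fun n => ⟨g * n * g⁻¹, hN.conj_mem n n.2 g⟩
        map_one' := Subtype.ext (by simp)
        map_mul' := fun a b => Subtype.ext (by simp) }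
    have h1 := detChar_eq (pullRep ρ c)
    have h2 : (pullRep ρ c).character = ρ.character :=
      funext fun m => hinv g m
    rw [h2, detChar_eq] at h1
    refine Eq.trans ?_ (Units.ext (congrFun h1 n)).symm
    exact Units.ext rfl
  rw [detOrder_eq] at hdo
  obtain ⟨μ, hμ, hμo⟩ := exists_lin_ext N (detHom ρ) hl hdo
  obtain ⟨χ, hres, hdet⟩ := exists_char_ext N ⟨ρ.character, d, ρ, hρ, rfl⟩ hinv hcop μ
    (fun n => by rw [hμ]; exact (congrFun (detChar_eq ρ) n).symm)
  have hχo : Cfsg.detOrder (χ : G → ℂ) = orderOf (detHom ρ) := by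
    rw [Cfsg.detOrder, hdet, orderOf_coe, hμo]
  refine ⟨χ, ⟨hres, by rw [hχo, detOrder_eq]⟩, fun χ' hχ' hres' hcop' => ?_⟩
  refine char_ext_unique N ⟨ρ.character, d, ρ, hρ, rfl⟩ χ' χ hχ' (CT.isCharacter_of_isIrr χ.2)
    hres' hres hcop ?_
  obtain ⟨d', τ, rfl⟩ := hχ'
  rw [detChar_eq, hdet]
  rw [detOrder_eq] at hcop'
  have hμ' : detHom τ = μ := by
    refine lin_ext_unique N _ _ (fun n => ?_) hcop' (hμo ▸ hdo)
    rw [hμ]
    have h1 := detChar_eq (pullRep τ N.subtype)
    have h2 : (pullRep τ N.subtype).character = ρ.character := funext hres'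
    rw [h2, detChar_eq] at h1
    exact (Units.ext (congrFun h1 n)).symm
  rw [hμ']

end Extend

end Cfsg.Agent.CoprimeExt
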